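import Groth.Agent.H29CurvSt.NodalLocus
import Groth.Agent.H7Lim.DescendAffine
import Groth.Agent.H7Lim.DescendFlat

/-!
# Open fibrewise properties descend along limits
-/

set_option autoImplicit false
set_option linter.style.haveILetI false
set_option backward.isDefEq.respectTransparency false

universe u

open CategoryTheory CategoryTheory.Limits AlgebraicGeometry

namespace Groth.Agent.H14NodalLim

open Groth.Agent.H7Lim Groth.Agent.H29CurvSt

/-- An open property of the points of flat, finitely presented morphisms, compatible with base change,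
which holds at every point of the limit, holds at every point of some stage. -/
theorem descends_allPts {Q : ∀ U V : Scheme.{u}, (U ⟶ V) → ↥U → Prop} (hQ : OpenFibrewise.{u} Q)
    (hflat : ∀ {U V : Scheme.{u}} (h : U ⟶ V), allPts Q h → Flat h) :
    Descends.{u} (allPts Q) @LocallyOfFinitePresentation := by
  intro J _ _ E d hd _ e _ _ T a _ _ hfp hP
  haveI : LocallyOfFinitePresentation a := hfp
  obtain ⟨j, φ, hj⟩ := descendsAffine_flat.descends J E d hd e a hfp (hflat _ hP)
  let a' := pullback.snd a (E.map φ)
  haveI : Flat a' := hj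
  haveI : CompactSpace ↥(E.obj j) := compactSpace_of_hom E φ
  haveI : CompactSpace ↥(pullback a (E.map φ)) :=
    QuasiCompact.compactSpace_of_compactSpace (pullback.fst a (E.map φ))
  haveI : ∀ k : Over j, CompactSpace ↥((pbDiagram E j a').obj k) := fun k =>
    compactSpace_pbDiagram_obj E j a' k
  let e₀ : Over j := Over.mk (𝟙 j)
  let U : ((pbDiagram E j a').obj e₀).Opens :=
    ⟨{x | Q _ _ (pullback.snd a' (E.map e₀.hom)) x}, hQ.isOpen _⟩
  have hU : (pbCone E d j a').π.app e₀ ⁻¹ᵁ U = ⊤ := by
    refine top_le_iff.1 fun x _ => ?_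
    change Q _ _ (pullback.snd a' (E.map e₀.hom)) ((pbCone E d j a').π.app e₀ x)
    have hsq : IsPullback ((pbCone E d j a').π.app e₀) (pullback.snd a' (d.π.app j))
        (pullback.snd a' (E.map e₀.hom)) (d.π.app j) :=
      IsPullback.of_right (h₁₂ := pullback.fst a' (E.map e₀.hom)) (h₂₂ := E.map e₀.hom) (v₁₃ := a')
        (by simpa [e₀] using IsPullback.of_hasPullback a' (d.π.app j)) (by simp [e₀])
        (IsPullback.of_hasPullback a' (E.map e₀.hom))
    refine (hQ.baseChange hsq x).1 ?_
    -- the base change to the limit is the given one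
    have h2 : IsPullback (pullback.fst a' (d.π.app j) ≫ pullback.fst a (E.map φ))
        (pullback.snd a' (d.π.app j)) a (d.π.app e) := by
      have := (IsPullback.of_hasPullback a' (d.π.app j)).paste_horiz (IsPullback.of_hasPullback a (E.map φ))
      simpa using this
    haveI : IsIso (𝟙 ((Functor.const J).obj d.pt |>.obj e)) := IsIso.id _
    have h3 : IsPullback h2.isoPullback.hom (pullback.snd a' (d.π.app j))
        (pullback.snd a (d.π.app e)) (𝟙 ((Functor.const J).obj d.pt |>.obj e)) :=
      IsPullback.of_horiz_isIso ⟨by rw [h2.isoPullback_hom_snd]; exact (Category.comp_id _).symm⟩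
    haveI : Flat (pullback.snd a (d.π.app e)) := hflat _ hP
    exact (hQ.baseChange h3 x).2 (hP _)
  obtain ⟨k, ψ, hk⟩ := exists_map_eq_top (pbDiagram E j a') _ (isLimitPbCone E j a' hd) U hU
  refine ⟨k.left, k.hom ≫ φ, fun z => ?_⟩
  have hp := (IsPullback.of_hasPullback a' (E.map k.hom)).paste_horiz
    (IsPullback.of_hasPullback a (E.map φ))
  rw [← E.map_comp] at hp
  let r := hp.isoPullback.inv
  have hsq : IsPullback (r ≫ (pbDiagram E j a').map ψ) (pullback.snd a (E.map (k.hom ≫ φ)))
      (pullback.snd a' (E.map e₀.hom)) (E.map ψ.left) := by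
    refine IsPullback.of_iso (isPullback_pbDiagram_map E j a' ψ) hp.isoPullback (Iso.refl _)
      (Iso.refl _) (Iso.refl _) ?_ ?_ ?_ ?_
    · simp [r]
    · simp
    · simp
    · simp
  exact (hQ.baseChange hsq z).2 (hk.ge (Set.mem_univ (r z)))

/-- Nodal families descend along limits with affine transition morphisms. -/
theorem descends_nodalFam :
    Descends.{u} (CurvSt.nodalFam : MorphismProperty Scheme.{u}) @LocallyOfFinitePresentation := by
  rw [← allPts_nodalNear]
  refine descends_allPts openFibrewise_nodalNear fun {U V} h hh => ?_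
  rw [allPts_nodalNear] at hh
  exact hh.1

/-- Nodal families are stable under base change. -/
theorem isStableUnderBaseChange_nodalFam :
    (CurvSt.nodalFam : MorphismProperty Scheme.{u}).IsStableUnderBaseChange := by
  haveI : (CurvSt.nodalFam : MorphismProperty Scheme.{u}).RespectsIso := by
    refine MorphismProperty.RespectsIso.mk _ (fun e f hf => ?_) fun e f hf => ?_
    · exact S1592.result f hf e.hom
    · exact S1595.result e.hom f hf
  refine MorphismProperty.IsStableUnderBaseChange.mk' fun {A B B'} g f _ hf => ?_
  exact (MorphismProperty.arrow_mk_iso_iff (P := (CurvSt.nodalFam : MorphismProperty Scheme.{u}))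
    (Arrow.isoMk (f := Arrow.mk (pullback.snd f g)) (g := Arrow.mk (pullback.fst g f))
      (pullbackSymmetry f g) (Iso.refl _) (by simp))).1 (S7912.result _ hf g)

end Groth.Agent.H14NodalLim
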